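import Mathlib

/-!
Base change of exterior powers.
-/

set_option autoImplicit false
set_option linter.style.haveILetI false
universe u

open TensorProduct exteriorPower

namespace Groth.Agent.ExtBC

variable {R S : Type u} [CommRing R] [CommRing S] [Algebra R S]
  {M : Type u} [AddCommGroup M] [Module R M]
  {N : Type u} [AddCommGroup N] [Module R N] [Module S N] [IsScalarTower R S N]

/-- To prove a property of tuples which is linear in each slot, it suffices to do so for tuples in the image. -/
theorem tuple_induction {f : M →ₗ[R] N} (hf : IsBaseChange S f) {n : ℕ} (P : (Fin n → N) → Prop)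
    (h0 : ∀ v i, P (Function.update v i 0))
    (hadd : ∀ v i x y, P (Function.update v i x) → P (Function.update v i y) → P (Function.update v i (x + y)))
    (hsmul : ∀ v i (a : S) x, P (Function.update v i x) → P (Function.update v i (a • x)))
    (base : ∀ m : Fin n → M, P (fun i => f (m i))) (v : Fin n → N) : P v := by
  classical
  suffices key : ∀ (s : Finset (Fin n)) (v : Fin n → N), (∀ i ∉ s, v i ∈ Set.range f) → P v from
    key Finset.univ v (fun i hi => absurd (Finset.mem_univ i) hi)
  intro s
  induction s using Finset.induction_on with
  | empty =>
    intro v hv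
    choose m hm using fun i => hv i (Finset.notMem_empty i)
    rw [show v = fun i => f (m i) from funext fun i => (hm i).symm]
    exact base m
  | insert j s _ ih =>
    intro v hv
    rw [← Function.update_eq_self j v]
    induction v j using hf.inductionOn with
    | zero => exact h0 v j
    | add x y hx hy => exact hadd v j x y hx hy
    | smul a x hx => exact hsmul v j a x hx
    | tmul m =>
      refine ih _ fun i hi => ?_
      by_cases hij : i = j
      · subst hij
        exact ⟨m, (Function.update_self (f := v) i (f m)).symm⟩
      · rw [Function.update_of_ne hij]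
        exact hv i (by simp [hij, hi])

variable (S) in
/-- The alternating map `m ↦ ∧ f (m i)`. -/
noncomputable def extMap (f : M →ₗ[R] N) (n : ℕ) : ↥(⋀[R]^n M) →ₗ[R] ↥(⋀[S]^n N) :=
  exteriorPower.alternatingMapLinearEquiv
    (AlternatingMap.mk
      ({ toFun := fun m => exteriorPower.ιMulti S n (fun i => f (m i))
         map_update_add' := fun m i x y => by
           have h : ∀ z, (fun k => f (Function.update m i z k)) = Function.update (fun k => f (m k)) i (f z) :=
             fun z => funext fun k => Function.apply_update (fun _ => f) m i z k
           rw [h, h, h, map_add, AlternatingMap.map_update_add]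
         map_update_smul' := fun m i c x => by
           have h : ∀ z, (fun k => f (Function.update m i z k)) = Function.update (fun k => f (m k)) i (f z) :=
             fun z => funext fun k => Function.apply_update (fun _ => f) m i z k
           rw [h, h, map_smul, ← IsScalarTower.algebraMap_smul S c (f x), AlternatingMap.map_update_smul,
             IsScalarTower.algebraMap_smul] } : MultilinearMap R (fun _ : Fin n => M) ↥(⋀[S]^n N))
      (fun m i j h hij => AlternatingMap.map_eq_zero_of_eq (exteriorPower.ιMulti S n) (fun i => f (m i)) (congrArg f h) hij))

theorem extMap_ιMulti (f : M →ₗ[R] N) (n : ℕ) (m : Fin n → M) :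
    extMap S f n (exteriorPower.ιMulti R n m) = exteriorPower.ιMulti S n (fun i => f (m i)) := by
  rw [extMap, exteriorPower.alternatingMapLinearEquiv_apply_ιMulti]
  rfl

theorem sq_baseChange (z : S ⊗[R] M) :
    LinearMap.baseChange S (ExteriorAlgebra.ι R (M := M)) z * LinearMap.baseChange S (ExteriorAlgebra.ι R (M := M)) z = 0 := by
  set f := LinearMap.baseChange S (ExteriorAlgebra.ι R (M := M))
  have hanti : ∀ z w, f z * f w + f w * f z = 0 := by
    intro z w
    induction z using TensorProduct.induction_on with
    | zero => simp
    | add a c ha hc =>
      rw [map_add, add_mul, mul_add, add_add_add_comm, ha, hc, add_zero]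
    | tmul b m =>
      induction w using TensorProduct.induction_on with
      | zero => simp
      | add a c ha hc => rw [map_add, add_mul, mul_add, add_add_add_comm, ha, hc, add_zero]
      | tmul c n =>
        simp only [f, LinearMap.baseChange_tmul, Algebra.TensorProduct.tmul_mul_tmul]
        rw [mul_comm c b, ← tmul_add, ExteriorAlgebra.ι_add_mul_swap, tmul_zero]
  induction z using TensorProduct.induction_on with
  | zero => simp
  | tmul b m => simp [f, LinearMap.baseChange_tmul, Algebra.TensorProduct.tmul_mul_tmul]
  | add a c ha hc =>
    rw [map_add, add_mul, mul_add, mul_add, ha, hc, zero_add, add_zero]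
    exact hanti a c

/-- **Exterior powers commute with base change.** -/
theorem isBaseChange_extMap {f : M →ₗ[R] N} (hf : IsBaseChange S f) (n : ℕ) :
    IsBaseChange S (extMap S f n) := by
  classical
  let L : S ⊗[R] ↥(⋀[R]^n M) →ₗ[S] ↥(⋀[S]^n N) := (extMap S f n).liftBaseChange S
  have hL : Function.Bijective L := by
    constructor
    · let bk : ExteriorAlgebra S N →ₐ[S] S ⊗[R] ExteriorAlgebra R M :=
        ExteriorAlgebra.lift S ⟨(LinearMap.baseChange S (ExteriorAlgebra.ι R (M := M))).comp hf.equiv.symm.toLinearMap,
          fun y => sq_baseChange (hf.equiv.symm y)⟩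
      let pr : ExteriorAlgebra R M →ₗ[R] ↥(⋀[R]^n M) :=
        (GradedAlgebra.proj (fun i : ℕ => ⋀[R]^i M) n).codRestrict _ fun z => by
          rw [GradedAlgebra.proj_apply]; exact SetLike.coe_mem _
      have hinj : Function.Injective (LinearMap.lTensor S (⋀[R]^n M).subtype) :=
        Function.LeftInverse.injective (g := LinearMap.lTensor S pr) fun z => by
          rw [← LinearMap.comp_apply, ← LinearMap.lTensor_comp,
            show pr ∘ₗ (⋀[R]^n M).subtype = LinearMap.id from LinearMap.ext fun z => Subtype.ext (by
              simp only [pr, LinearMap.comp_apply, LinearMap.codRestrict_apply, Submodule.coe_subtype,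
                GradedAlgebra.proj_apply, LinearMap.id_apply]
              exact DirectSum.decompose_of_mem_same _ z.2),
            LinearMap.lTensor_id, LinearMap.id_apply]
      have hgen : ∀ x : ↥(⋀[R]^n M), bk ((extMap S f n x : ↥(⋀[S]^n N)) : ExteriorAlgebra S N) =
          (1 : S) ⊗ₜ[R] (x : ExteriorAlgebra R M) := by
        intro x
        have hx : x ∈ Submodule.span R (Set.range (exteriorPower.ιMulti R n (M := M))) := by
          rw [exteriorPower.ιMulti_span]; trivial
        induction hx using Submodule.span_induction with
        | zero => simp
        | add a c _ _ ha hc => simp only [map_add, Submodule.coe_add, ha, hc, tmul_add]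
        | smul r a _ ha =>
          rw [map_smul, ← IsScalarTower.algebraMap_smul S r (extMap S f n a), Submodule.coe_smul, map_smul, ha,
            Submodule.coe_smul, tmul_smul, IsScalarTower.algebraMap_smul]
        | mem a ha =>
          obtain ⟨m, rfl⟩ := ha
          rw [extMap_ιMulti, exteriorPower.ιMulti_apply_coe, exteriorPower.ιMulti_apply_coe,
            ExteriorAlgebra.ιMulti_apply, ExteriorAlgebra.ιMulti_apply, map_list_prod, List.map_ofFn,
            ← Algebra.TensorProduct.includeRight_apply, map_list_prod, List.map_ofFn]
          congr 2
          funext i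
          simp only [Function.comp_apply, bk, ExteriorAlgebra.lift_ι_apply, LinearMap.comp_apply,
            LinearEquiv.coe_coe, hf.equiv_symm_apply, LinearMap.baseChange_tmul,
            Algebra.TensorProduct.includeRight_apply]
      have key : ∀ z, bk ((L z : ↥(⋀[S]^n N)) : ExteriorAlgebra S N) =
          LinearMap.lTensor S (⋀[R]^n M).subtype z := by
        intro z
        induction z using TensorProduct.induction_on with
        | zero => simp
        | add a c ha hc => simp only [map_add, Submodule.coe_add, ha, hc]
        | tmul b x =>
          rw [LinearMap.liftBaseChange_tmul, Submodule.coe_smul, map_smul, hgen, LinearMap.lTensor_tmul,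
            TensorProduct.smul_tmul', smul_eq_mul, mul_one]
          rfl
      intro a c h
      exact hinj ((key a).symm.trans ((congrArg (fun y : ↥(⋀[S]^n N) => bk (y : ExteriorAlgebra S N)) h).trans (key c)))
    · rw [← LinearMap.range_eq_top, eq_top_iff, ← exteriorPower.ιMulti_span, Submodule.span_le]
      rintro _ ⟨v, rfl⟩
      refine tuple_induction hf (fun v => exteriorPower.ιMulti S n v ∈ LinearMap.range L)
        (fun v i => ?_) (fun v i x y hx hy => ?_) (fun v i a x hx => ?_) (fun m => ?_) v
      · rw [AlternatingMap.map_update_zero]
        exact zero_mem _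
      · rw [AlternatingMap.map_update_add]
        exact add_mem hx hy
      · rw [AlternatingMap.map_update_smul]
        exact Submodule.smul_mem _ a hx
      · refine ⟨(1 : S) ⊗ₜ[R] exteriorPower.ιMulti R n m, ?_⟩
        rw [LinearMap.liftBaseChange_tmul, one_smul, extMap_ιMulti]
  exact IsBaseChange.of_equiv (LinearEquiv.ofBijective L hL) fun x => by
    show L ((1 : S) ⊗ₜ[R] x) = extMap S f n x
    rw [LinearMap.liftBaseChange_tmul, one_smul]

end Groth.Agent.ExtBC
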