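import Mathlib

/-!
`Ext` of modules and flat base change.
-/

set_option autoImplicit false

namespace Groth.Agent.ExtBC

universe u

open CategoryTheory CategoryTheory.Limits TensorProduct Abelian

section SES

variable {R : Type u} [CommRing R] {S : ShortComplex (ModuleCat.{u} R)} (hS : S.ShortExact) [Projective S.X₂]
  (K : Type u) [AddCommGroup K] [Module R K]

include hS in
/-- `Ext¹` from a presentation with projective middle term. -/
theorem nonempty_ext_one_equiv :
    Nonempty (Ext S.X₃ (ModuleCat.of R K) 1 ≃ₗ[R]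
      ((S.X₁ →ₗ[R] K) ⧸ LinearMap.range (LinearMap.lcomp R K S.f.hom))) := by
  let Φ : (S.X₁ →ₗ[R] K) →ₗ[R] Ext S.X₃ (ModuleCat.of R K) 1 :=
    { toFun := fun f => hS.extClass.comp (Ext.mk₀ (ModuleCat.ofHom f : S.X₁ ⟶ ModuleCat.of R K)) rfl
      map_add' := fun f g => (congrArg (fun z => hS.extClass.comp z rfl) (Ext.mk₀_add
        (ModuleCat.ofHom f : S.X₁ ⟶ ModuleCat.of R K) (ModuleCat.ofHom g))).trans (Ext.comp_add _ _ _ _)
      map_smul' := fun r f => (congrArg (fun z => hS.extClass.comp z rfl) (Ext.mk₀_smul r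
        (ModuleCat.ofHom f : S.X₁ ⟶ ModuleCat.of R K))).trans (Ext.comp_smul _ _ _ _) }
  have hker : LinearMap.ker Φ = LinearMap.range (LinearMap.lcomp R K S.f.hom) := by
    ext f
    refine ⟨fun hf => ?_, ?_⟩
    · obtain ⟨x, hx⟩ := Ext.contravariant_sequence_exact₁ hS (ModuleCat.of R K)
        (Ext.mk₀ (ModuleCat.ofHom f : S.X₁ ⟶ ModuleCat.of R K)) rfl hf
      obtain ⟨g, rfl⟩ := Ext.addEquiv₀.symm.surjective x
      simp only [Ext.addEquiv₀_symm_apply] at hx
      rw [Ext.mk₀_comp_mk₀] at hx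
      exact ⟨g.hom, congrArg ModuleCat.Hom.hom ((Ext.mk₀_bijective _ _).1 hx)⟩
    · rintro ⟨g, rfl⟩
      show hS.extClass.comp (Ext.mk₀ (S.f ≫ (ModuleCat.ofHom g : S.X₂ ⟶ ModuleCat.of R K))) rfl = 0
      rw [← Ext.mk₀_comp_mk₀]
      exact hS.extClass_comp_assoc _
  have hsurj : Function.Surjective Φ := fun x => by
    obtain ⟨y, hy⟩ := Ext.contravariant_sequence_exact₃ hS (ModuleCat.of R K) x
      ((Ext.subsingleton_of_projective (P := S.X₂) (ModuleCat.of R K) 0).elim _ _) (n₀ := 0) rfl
    obtain ⟨g, rfl⟩ := Ext.addEquiv₀.symm.surjective y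
    exact ⟨g.hom, hy⟩
  exact ⟨((Submodule.quotEquivOfEq _ _ hker.symm).trans (Φ.quotKerEquivOfSurjective hsurj)).symm⟩

include hS in
theorem nonempty_ext_succ_equiv (q : ℕ) :
    Nonempty (Ext S.X₁ (ModuleCat.of R K) (q + 1) ≃ₗ[R] Ext S.X₃ (ModuleCat.of R K) (q + 2)) := by
  let Φ : Ext S.X₁ (ModuleCat.of R K) (q + 1) →ₗ[R] Ext S.X₃ (ModuleCat.of R K) (q + 2) :=
    { toFun := fun x => hS.extClass.comp x (by omega)
      map_add' := fun x y => Ext.comp_add _ _ _ _
      map_smul' := fun r x => Ext.comp_smul _ _ _ _ }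
  refine ⟨LinearEquiv.ofBijective Φ ⟨(injective_iff_map_eq_zero Φ).2 fun x hx => ?_, fun x => ?_⟩⟩
  · obtain ⟨y, hy⟩ := Ext.contravariant_sequence_exact₁ hS (ModuleCat.of R K) x (show 1 + (q + 1) = q + 2 by omega) hx
    rw [← hy, (Ext.subsingleton_of_projective (P := S.X₂) (ModuleCat.of R K) q).elim y 0, Ext.comp_zero]
  · exact Ext.contravariant_sequence_exact₃ hS (ModuleCat.of R K) x
      ((Ext.subsingleton_of_projective (P := S.X₂) (ModuleCat.of R K) (q + 1)).elim _ _) (by omega)

end SES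

variable {A B : Type u} [CommRing A] [CommRing B] [Algebra A B] [Module.Flat A B] [IsNoetherianRing A]
  (N : Type u) [AddCommGroup N] [Module A N]

theorem exists_hom_equiv (M : Type u) [AddCommGroup M] [Module A M] [Module.Finite A M] :
    ∃ e : (B ⊗[A] (M →ₗ[A] N)) ≃ₗ[B] ((B ⊗[A] M) →ₗ[B] (B ⊗[A] N)), ∀ f, e (1 ⊗ₜ f) = f.baseChange B := by
  haveI : Module.FinitePresentation A M := Module.finitePresentation_of_finite A M
  have h := Module.FinitePresentation.isBaseChange_map A M N B
  refine ⟨h.equiv, fun f => ?_⟩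
  rw [IsBaseChange.equiv_tmul, one_smul]
  rfl

variable (B) in
theorem nonempty_ext_baseChange : ∀ (r : ℕ) (M : Type u) [AddCommGroup M] [Module A M] [Module.Finite A M],
    Nonempty ((B ⊗[A] Ext (ModuleCat.of A M) (ModuleCat.of A N) r) ≃ₗ[B]
      Ext (ModuleCat.of B (B ⊗[A] M)) (ModuleCat.of B (B ⊗[A] N)) r)
  | r, M, _, _, _ => by
    obtain ⟨m, π, hπ⟩ := Module.Finite.exists_fin' A M
    let S : ShortComplex (ModuleCat.{u} A) :=
      ShortComplex.mk (X₁ := ModuleCat.of A (LinearMap.ker π)) (X₂ := ModuleCat.of A (Fin m → A))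
        (X₃ := ModuleCat.of A M) (ModuleCat.ofHom (LinearMap.ker π).subtype) (ModuleCat.ofHom π) (by
          ext z
          exact z.2)
    have hex : Function.Exact (LinearMap.ker π).subtype π := LinearMap.exact_subtype_ker_map π
    have hS : S.ShortExact :=
      { exact := (ShortComplex.ShortExact.moduleCat_exact_iff_function_exact S).2 hex
        mono_f := (ModuleCat.mono_iff_injective _).2 (LinearMap.ker π).injective_subtype
        epi_g := (ModuleCat.epi_iff_surjective _).2 hπ }
    haveI : Projective S.X₂ := (IsProjective.iff_projective _).1 (inferInstanceAs (Module.Projective A (Fin m → A)))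
    let ι' := (LinearMap.ker π).subtype.baseChange B
    let π' := π.baseChange B
    have hex' : Function.Exact ι' π' := lTensor_exact B hex hπ
    let S' : ShortComplex (ModuleCat.{u} B) :=
      ShortComplex.mk (X₁ := ModuleCat.of B (B ⊗[A] LinearMap.ker π)) (X₂ := ModuleCat.of B (B ⊗[A] (Fin m → A)))
        (X₃ := ModuleCat.of B (B ⊗[A] M)) (ModuleCat.ofHom ι') (ModuleCat.ofHom π')
        (ModuleCat.hom_ext (LinearMap.ext fun z => hex'.apply_apply_eq_zero z))
    have hS' : S'.ShortExact :=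
      { exact := (ShortComplex.ShortExact.moduleCat_exact_iff_function_exact S').2 hex'
        mono_f := (ModuleCat.mono_iff_injective _).2
          (Module.Flat.lTensor_preserves_injective_linearMap _ (LinearMap.ker π).injective_subtype)
        epi_g := (ModuleCat.epi_iff_surjective _).2 (LinearMap.lTensor_surjective B hπ) }
    haveI : Projective S'.X₂ :=
      (IsProjective.iff_projective _).1 (inferInstanceAs (Module.Projective B (B ⊗[A] (Fin m → A))))
    match r with
    | 0 =>
      obtain ⟨e, -⟩ := exists_hom_equiv (A := A) (B := B) N M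
      exact ⟨((Ext.linearEquiv₀.trans ModuleCat.homLinearEquiv).baseChange A B).trans
        (e.trans (Ext.linearEquiv₀.trans ModuleCat.homLinearEquiv).symm)⟩
    | 1 =>
      obtain ⟨a⟩ := nonempty_ext_one_equiv hS N
      obtain ⟨b⟩ := nonempty_ext_one_equiv hS' (B ⊗[A] N)
      obtain ⟨e₁, he₁⟩ := exists_hom_equiv (A := A) (B := B) N (LinearMap.ker π)
      obtain ⟨e₂, he₂⟩ := exists_hom_equiv (A := A) (B := B) N (Fin m → A)
      let T := LinearMap.lcomp A N (LinearMap.ker π).subtype
      let T' := LinearMap.lcomp B (B ⊗[A] N) ι'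
      have hsq : T' ∘ₗ e₂.toLinearMap = e₁.toLinearMap ∘ₗ T.baseChange B := by
        refine TensorProduct.AlgebraTensorModule.curry_injective (LinearMap.ext_ring (LinearMap.ext fun f => ?_))
        show T' (e₂ (1 ⊗ₜ f)) = e₁ (T.baseChange B (1 ⊗ₜ f))
        rw [LinearMap.baseChange_tmul, he₁, he₂]
        exact (LinearMap.baseChange_comp _ _).symm
      have hmk : Function.Exact (T.baseChange B) ((LinearMap.range T).mkQ.baseChange B) :=
        lTensor_exact B (LinearMap.exact_map_mkQ_range T) (Submodule.mkQ_surjective _)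
      have hmksurj : Function.Surjective ((LinearMap.range T).mkQ.baseChange B) :=
        LinearMap.lTensor_surjective B (Submodule.mkQ_surjective _)
      let _ : AddCommGroup ((B ⊗[A] LinearMap.ker π) →ₗ[B] (B ⊗[A] N)) := LinearMap.addCommGroup
      let c : (B ⊗[A] (((LinearMap.ker π) →ₗ[A] N) ⧸ LinearMap.range T)) ≃ₗ[B]
          ((B ⊗[A] LinearMap.ker π) →ₗ[B] (B ⊗[A] N)) ⧸ LinearMap.range T' :=
        ((Submodule.quotEquivOfEq _ _ hmk.linearMap_ker_eq.symm).trans
          (LinearMap.quotKerEquivOfSurjective _ hmksurj)).symm.trans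
          (Submodule.Quotient.equiv _ _ e₁ (by
            rw [← LinearMap.range_comp, ← hsq, LinearMap.range_comp, LinearEquiv.range, Submodule.map_top]))
      exact ⟨(a.baseChange A B).trans (c.trans b.symm)⟩
    | q + 2 =>
      obtain ⟨a⟩ := nonempty_ext_succ_equiv hS N q
      obtain ⟨b⟩ := nonempty_ext_succ_equiv hS' (B ⊗[A] N) q
      obtain ⟨e⟩ := nonempty_ext_baseChange (q + 1) (LinearMap.ker π)
      exact ⟨(a.symm.baseChange A B).trans (e.trans b)⟩

end Groth.Agent.ExtBC
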