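import Groth.Agent.SymAlg.PullBC
import Groth.Agent.ExtBC.ExtPow
import Groth.Prelude.Def_ExtPow2

/-!
Sections of `tilde M` over affine opens, and exterior powers of `tilde M`.
-/

set_option autoImplicit false
set_option backward.isDefEq.respectTransparency false
set_option linter.style.haveILetI false
set_option maxHeartbeats 1000000

universe u

open CategoryTheory CategoryTheory.Limits AlgebraicGeometry TopologicalSpace Opposite
open Groth.Agent.QC (res resO res_res res_self app_res res_smul)

noncomputable section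

namespace Groth.Agent.ExtBC

/-- Restriction between affine opens is universal among semilinear maps. -/
theorem existsUnique_res {X : Scheme.{u}} {L : X.Modules} (hL : Coh.IsQCoh L) {U V : X.Opens}
    (hU : IsAffineOpen U) (hV : IsAffineOpen V) (h : V ≤ U) (Q : Type u) [AddCommGroup Q] [Module Γ(X, V) Q]
    (w : Γ(L, U) →+ Q) (hw : ∀ (r : Γ(X, U)) (x : Γ(L, U)), w (r • x) = resO X h r • w x) :
    ∃! f : Γ(L, V) →ₗ[Γ(X, V)] Q, ∀ m, f (res L h m) = w m := by
  haveI : L.IsQuasicoherent := hL
  have h' : V ≤ (𝟙 X) ⁻¹ᵁ U := h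
  let η := (Scheme.Modules.pullbackPushforwardAdjunction (𝟙 X)).unit.app L
  haveI : (Scheme.Modules.pullback (𝟙 X)).Full := Functor.Full.of_iso (Scheme.Modules.pullbackId X).symm
  haveI : (Scheme.Modules.pullback (𝟙 X)).Faithful := Functor.Faithful.of_iso (Scheme.Modules.pullbackId X).symm
  haveI := (Scheme.Modules.pullbackPushforwardAdjunction (𝟙 X)).unit_isIso_of_L_fully_faithful
  haveI : IsIso η := inferInstanceAs (IsIso ((Scheme.Modules.pullbackPushforwardAdjunction (𝟙 X)).unit.app L))
  have happ : ∀ r : Γ(X, U), ((𝟙 X : X ⟶ X).appLE U V h').hom r = resO X h r := fun r => by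
    simp only [Scheme.Hom.appLE, Scheme.Hom.id_app]
    rfl
  let w' : Γ(L, U) →ₛₗ[((𝟙 X : X ⟶ X).appLE U V h').hom] Q :=
    { toFun := w
      map_add' := map_add w
      map_smul' := fun r x => by rw [hw, happ] }
  obtain ⟨f₀, hf₀, huniq⟩ := RelTilde.isBC_unit (𝟙 X) hL hU hV h' Q w'
  let β : Γ(L, V) →ₗ[Γ(X, V)] Γ((Scheme.Modules.pullback (𝟙 X)).obj L, V) :=
    { toFun := fun m => η.app V m
      map_add' := fun a b => map_add _ a b
      map_smul' := fun r a => Scheme.Modules.Hom.app_smul η r a }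
  have hres : ∀ m, RelTilde.resθ (𝟙 X) η h' m = β (res L h m) := fun m => by
    exact app_res η h m
  let β' := LinearEquiv.ofBijective β (ConcreteCategory.bijective_of_isIso (η.app V))
  refine ⟨f₀.comp β, fun m => ?_, fun g hg => ?_⟩
  · show f₀ (β (res L h m)) = w m
    rw [← hres]
    exact hf₀ m
  · have h1 : g.comp β'.symm.toLinearMap = f₀ := huniq _ fun m => by
      show g (β'.symm _) = w m
      rw [hres, show β (res L h m) = β' (res L h m) from rfl, LinearEquiv.symm_apply_apply]
      exact hg m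
    ext m
    show g m = f₀ (β m)
    rw [← h1]
    show g m = g (β'.symm (β' m))
    rw [LinearEquiv.symm_apply_apply]

variable {R : CommRingCat.{u}}

/-- `R` acting on functions over an open. -/
abbrev algSec (U : (Spec R).Opens) : Algebra R Γ(Spec R, U) :=
  ((Scheme.ΓSpecIso R).inv ≫ (Spec R).presheaf.map (homOfLE le_top).op).hom.toAlgebra

/-- `R` acting on sections over an open. -/
abbrev modSec (M : ModuleCat.{u} R) (U : (Spec R).Opens) : Module R Γ(tilde M, U) :=
  letI := algSec (R := R) U
  Module.compHom _ (algebraMap R Γ(Spec R, U))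

/-- `M → Γ(tilde M, U)`. -/
def toSec (M : ModuleCat.{u} R) (U : (Spec R).Opens) :
    letI := algSec (R := R) U
    letI := modSec M U
    M →ₗ[R] Γ(tilde M, U) :=
  letI := algSec (R := R) U
  letI := modSec M U
  { toFun := fun m => (tilde.toOpen M U).hom m
    map_add' := fun a b => map_add (tilde.toOpen M U).hom a b
    map_smul' := fun r a => by
      refine ((tilde.toOpen M U).hom.map_smul r a).trans ?_
      exact Scheme.Modules.smul_Spec_def _ _ }

theorem res_toSec (M : ModuleCat.{u} R) {U V : (Spec R).Opens} (h : V ≤ U) (m : M) :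
    res (tilde M) h (toSec M U m) = toSec M V m :=
  congr($(tilde.toOpen_res M U V (homOfLE h)) m)

theorem isBaseChange_toSec (M : ModuleCat.{u} R) {U : (Spec R).Opens} (hU : IsAffineOpen U) :
    letI := algSec (R := R) U
    letI := modSec M U
    haveI : IsScalarTower R Γ(Spec R, U) Γ(tilde M, U) := IsScalarTower.of_algebraMap_smul fun _ _ => rfl
    IsBaseChange Γ(Spec R, U) (toSec M U) := by
  letI := algSec (R := R) U
  letI := modSec M U
  haveI : IsScalarTower R Γ(Spec R, U) Γ(tilde M, U) := IsScalarTower.of_algebraMap_smul fun _ _ => rfl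
  letI := algSec (R := R) ⊤
  letI := modSec M ⊤
  haveI : IsScalarTower R Γ(Spec R, ⊤) Γ(tilde M, ⊤) := IsScalarTower.of_algebraMap_smul fun _ _ => rfl
  let e : M ≃ₗ[R] Γ(tilde M, ⊤) := LinearEquiv.ofBijective (toSec M ⊤)
    (ConcreteCategory.bijective_of_isIso (tilde.toOpen M ⊤))
  have hsurj : Function.Surjective (algebraMap R Γ(Spec R, ⊤)) := fun c => ⟨(Scheme.ΓSpecIso R).hom c, by
    show resO (Spec R) _ ((Scheme.ΓSpecIso R).inv ((Scheme.ΓSpecIso R).hom c)) = c
    rw [Iso.hom_inv_id_apply, Groth.Agent.QC.resO_self]⟩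
  refine IsBaseChange.of_lift_unique _ fun Q _ _ _ _ g => ?_
  letI : AddCommGroup Q := Module.addCommMonoidToAddCommGroup Γ(Spec R, U)
  obtain ⟨f, hf, huniq⟩ := existsUnique_res (L := tilde M) (Groth.Agent.QC.isQCoh_tilde M) (isAffineOpen_top _)
    hU le_top Q (g.toAddMonoidHom.comp e.symm.toAddMonoidHom) (fun r x => by
      obtain ⟨a, rfl⟩ := hsurj r
      show g (e.symm (algebraMap R Γ(Spec R, ⊤) a • x)) = _
      rw [IsScalarTower.algebraMap_smul, map_smul, map_smul, ← IsScalarTower.algebraMap_smul Γ(Spec R, U) a]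
      show resO (Spec R) le_top ((Scheme.ΓSpecIso R).inv a) • _ =
        resO (Spec R) le_top (resO (Spec R) (le_refl ⊤) ((Scheme.ΓSpecIso R).inv a)) • _
      rw [Groth.Agent.QC.resO_self]
      rfl)
  refine ⟨f, LinearMap.ext fun m => ?_, fun f' hf' => huniq f' fun x => ?_⟩
  · show f (toSec M U m) = g m
    rw [← res_toSec M (le_top : U ≤ ⊤) m, hf]
    show g (e.symm (e m)) = g m
    rw [LinearEquiv.symm_apply_apply]
  · obtain ⟨m, rfl⟩ := e.surjective x
    show f' (res (tilde M) le_top (toSec M ⊤ m)) = g (e.symm (e m))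
    rw [LinearEquiv.symm_apply_apply, res_toSec]
    exact LinearMap.congr_fun hf' m

theorem isExtPow_tilde (M : ModuleCat.{u} R) (n : ℕ) :
    ExtPow.IsExtPow n (tilde M) (tilde (ModuleCat.of R ↥(⋀[R]^n M))) := by
  classical
  let W : ModuleCat.{u} R := ModuleCat.of R ↥(⋀[R]^n M)
  have key : ∀ U : (Spec R).affineOpens, ∃ φ : Γ(tilde W, U.1) ≃ₗ[Γ(Spec R, U.1)] ↥(⋀[Γ(Spec R, U.1)]^n Γ(tilde M, U.1)),
      ∀ m : Fin n → M, φ.symm (exteriorPower.ιMulti _ n (fun i => toSec M U.1 (m i))) =
        toSec W U.1 (exteriorPower.ιMulti R n m) := by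
    intro U
    letI := algSec (R := R) U.1
    letI := modSec M U.1
    letI := modSec W U.1
    haveI : IsScalarTower R Γ(Spec R, U.1) Γ(tilde M, U.1) := IsScalarTower.of_algebraMap_smul fun _ _ => rfl
    haveI : IsScalarTower R Γ(Spec R, U.1) Γ(tilde W, U.1) := IsScalarTower.of_algebraMap_smul fun _ _ => rfl
    have h1 := isBaseChange_toSec W U.2
    have h2 := isBaseChange_extMap (isBaseChange_toSec M U.2) n
    refine ⟨h1.equiv.symm ≪≫ₗ h2.equiv, fun m => ?_⟩
    rw [LinearEquiv.symm_apply_eq, LinearEquiv.trans_apply, h1.equiv_symm_apply, h2.equiv_tmul, one_smul,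
      extMap_ιMulti]
  choose φ hφ using key
  refine ⟨φ, fun U V h e => ?_⟩
  let ρ := fun x => res (tilde M) h x
  let F : (Fin n → Γ(tilde M, U.1)) → Γ(tilde W, V.1) :=
    fun e => res (tilde W) h ((φ U).symm (exteriorPower.ιMulti _ n e))
  let G : (Fin n → Γ(tilde M, U.1)) → Γ(tilde W, V.1) :=
    fun e => (φ V).symm (exteriorPower.ιMulti _ n (fun j => res (tilde M) h (e j)))
  show F e = G e
  letI := algSec (R := R) U.1
  letI := modSec M U.1
  haveI : IsScalarTower R Γ(Spec R, U.1) Γ(tilde M, U.1) := IsScalarTower.of_algebraMap_smul fun _ _ => rfl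
  have hupd : ∀ (v : Fin n → Γ(tilde M, U.1)) i z, (fun k => res (tilde M) h (Function.update v i z k)) =
      Function.update (fun k => res (tilde M) h (v k)) i (res (tilde M) h z) :=
    fun v i z => funext fun k => Function.apply_update (fun _ => fun x => res (tilde M) h x) v i z k
  refine tuple_induction (isBaseChange_toSec M U.2) (fun e => F e = G e)
    (fun v i => ?_) (fun v i x y hx hy => ?_) (fun v i a x hx => ?_) (fun m => ?_) e
  · simp only [F, G, hupd, map_zero, AlternatingMap.map_update_zero]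
  · simp only [F, G, hupd, map_add, AlternatingMap.map_update_add] at hx hy ⊢
    rw [hx, hy]
  · simp only [F, G, hupd, AlternatingMap.map_update_smul, map_smul, res_smul] at hx ⊢
    rw [hx]
  · show res (tilde W) h ((φ U).symm _) = (φ V).symm (exteriorPower.ιMulti _ n fun j => res (tilde M) h (toSec M U.1 (m j)))
    simp only [res_toSec]
    rw [hφ, hφ, res_toSec]

end Groth.Agent.ExtBC
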